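import Groth.Agent.L22.Completion.Basic

/-!
A scheme with a dense open of dimension at most one has dimension at most one.
-/

set_option autoImplicit false
set_option backward.isDefEq.respectTransparency false
universe u

open CategoryTheory AlgebraicGeometry TopologicalSpace Topology

namespace Groth.L22.Completion

theorem dim_le_one_of_spec {α : Type*} [TopologicalSpace α] [QuasiSober α] [T0Space α]
    (h : ∀ a b c : α, a ⤳ b → b ⤳ c → a = b ∨ b = c) : topologicalKrullDim α ≤ 1 := by
  refine iSup_le fun l => ?_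
  by_contra hl
  have h2 : 2 ≤ l.length := by
    by_contra hh
    push Not at hh
    exact hl (by exact_mod_cast Nat.lt_succ_iff.1 hh)
  let g : IrreducibleCloseds α → α := fun s => s.isIrreducible.genericPoint
  have hg : ∀ s, closure ({g s} : Set α) = (s : Set α) := fun s =>
    s.isIrreducible.isGenericPoint_genericPoint s.isClosed |>.def
  have hlt : ∀ s t : IrreducibleCloseds α, s < t → g t ⤳ g s ∧ g t ≠ g s := fun s t hst => by
    refine ⟨specializes_iff_closure_subset.2 (by rw [hg, hg]; exact hst.le), fun e => ?_⟩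
    exact hst.ne (IrreducibleCloseds.ext (by rw [← hg, ← hg, e]))
  obtain ⟨h21, hne21⟩ := hlt (l ⟨1, by omega⟩) (l ⟨2, by omega⟩) (l.strictMono (by simp [Fin.lt_def]))
  obtain ⟨h10, hne10⟩ := hlt (l ⟨0, by omega⟩) (l ⟨1, by omega⟩) (l.strictMono (by simp [Fin.lt_def]))
  rcases h _ _ _ h21 h10 with e | e
  · exact hne21 e
  · exact hne10 e

variable (k : Type u) [Field k]

theorem dim_le_one (Y : Scheme.{u}) [Y.Over (Spec (CommRingCat.of k))]
    [LocallyOfFiniteType (Y ↘ Spec (CommRingCat.of k))] [NoetherianSpace Y] (U : Y.Opens)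
    (hd : Dense (U : Set Y)) (hU : topologicalKrullDim (U : Set Y) ≤ 1) :
    topologicalKrullDim Y ≤ 1 := by
  refine dim_le_one_of_spec fun a b c hab hbc => ?_
  obtain ⟨η, hη⟩ := QuasiSober.sober (isIrreducible_irreducibleComponent (x := a))
    isClosed_irreducibleComponent
  have hηa : η ⤳ a := hη.specializes mem_irreducibleComponent
  obtain ⟨O, hO, hOn, hOZ⟩ := NoetherianSpace.exists_isOpen_nonempty_subset_irreducibleComponent
    (irreducibleComponent a) (irreducibleComponent_mem_irreducibleComponents a)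
  obtain ⟨z, hzO, hzU⟩ := hd.inter_open_nonempty O hO hOn
  have hzc : z ∈ closure ({η} : Set Y) := hη.def ▸ hOZ hzO
  have hηU : η ∈ U := (specializes_iff_mem_closure.2 hzc).mem_open U.2 hzU
  obtain ⟨_, ⟨W, hW, rfl⟩, hηW, hWU⟩ :=
    Y.isBasis_affineOpens.exists_subset_of_mem_open hηU U.2
  change Y.Opens at W
  obtain ⟨n, hn, htr⟩ := Groth.L22.SchemeDim.exists_dim_closure_eq_trdeg k Y η
  obtain ⟨m, hm, htr'⟩ := Groth.L22.SchemeDim.exists_dim_quotient_eq_trdeg k Y hW hηW
  have hmn : m = n := by exact_mod_cast htr'.symm.trans htr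
  subst hmn
  have hdim : topologicalKrullDim (closure ({η} : Set Y)) ≤ 1 := by
    rw [hn, ← hm, ← Groth.L22.SchemeDim.topologicalKrullDim_closure_inter hW hηW]
    exact (Groth.L22.SchemeDim.topologicalKrullDim_mono (Set.inter_subset_right.trans hWU)).trans hU
  rcases eq_or_eq_of_dim_le_one hdim
    (a := (⟨a, specializes_iff_mem_closure.1 hηa⟩ : closure ({η} : Set Y)))
    (b := ⟨b, specializes_iff_mem_closure.1 (hηa.trans hab)⟩)
    (c := ⟨c, specializes_iff_mem_closure.1 ((hηa.trans hab).trans hbc)⟩)
    ((subtype_specializes_iff _ _).2 hab) ((subtype_specializes_iff _ _).2 hbc) with h | h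
  · exact Or.inl (congrArg Subtype.val h)
  · exact Or.inr (congrArg Subtype.val h)

end Groth.L22.Completion
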