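import Mathlib.AlgebraicGeometry.Morphisms.SchemeTheoreticallyDominant
import Mathlib.AlgebraicGeometry.Morphisms.Immersion
import Groth.Agent.L22.SchemeDim
import Groth.Agent.L18.CurveBasic

/-!
Completions of schemes of dimension at most one: the complement of a dense open is a finite set of
closed points.
-/

set_option autoImplicit false
set_option backward.isDefEq.respectTransparency false
universe u

open CategoryTheory AlgebraicGeometry TopologicalSpace Topology

namespace Groth.L22.Completion

theorem eq_or_eq_of_dim_le_one {α : Type*} [TopologicalSpace α] [T0Space α]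
    (h : topologicalKrullDim α ≤ 1) {a b c : α} (hab : a ⤳ b) (hbc : b ⤳ c) : a = b ∨ b = c := by
  by_contra hne
  push Not at hne
  obtain ⟨hab', hbc'⟩ := hne
  let C : α → IrreducibleCloseds α := fun x =>
    ⟨closure {x}, isIrreducible_singleton.closure, isClosed_closure⟩
  have lt : ∀ {x y : α}, x ⤳ y → x ≠ y → C y < C x := fun {x y} hxy hne => by
    refine lt_of_le_of_ne (specializes_iff_closure_subset.1 hxy) fun e => hne ?_
    exact (hxy.antisymm (specializes_iff_closure_subset.2
      (congrArg IrreducibleCloseds.carrier e).ge)).eq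
  let l : LTSeries (IrreducibleCloseds α) :=
    ((RelSeries.singleton _ (C c)).snoc (C b) (lt hbc hbc')).snoc (C a)
      (by simpa using lt hab hab')
  have h2 : (2 : WithBot ℕ∞) ≤ topologicalKrullDim α := le_iSup_of_le l (by simp [l])
  exact absurd (h2.trans h) (by norm_num)

/-- A morphism with quasi-compact source map is scheme-theoretically dominant onto its image. -/
theorem isSchemeTheoreticallyDominant_toImage {X Z : Scheme.{u}} (f : X ⟶ Z) [QuasiCompact f] :
    IsSchemeTheoreticallyDominant f.toImage := by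
  refine ⟨Scheme.IdealSheafData.ext_of_iSup_eq_top
    (fun V : Z.affineOpens => ⟨f.imageι ⁻¹ᵁ V.1, V.2.preimage f.imageι⟩) ?_ fun V => ?_⟩
  · refine top_le_iff.1 fun y _ => ?_
    obtain ⟨_, ⟨V, hV, rfl⟩, hyV, -⟩ :=
      Z.isBasis_affineOpens.exists_subset_of_mem_open (Set.mem_univ (f.imageι y)) isOpen_univ
    exact Opens.mem_iSup.2 ⟨⟨V, hV⟩, hyV⟩
  · rw [Scheme.Hom.ker_apply, Scheme.IdealSheafData.ideal_bot]
    exact (RingHom.injective_iff_ker_eq_bot _).1 (f.toImage_app_injective V)

variable (k : Type u) [Field k]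

theorem finite_compl (Y : Scheme.{u}) [Y.Over (Spec (CommRingCat.of k))]
    [LocallyOfFiniteType (Y ↘ Spec (CommRingCat.of k))] [NoetherianSpace Y] (U : Y.Opens)
    (hd : Dense (U : Set Y)) (hU : topologicalKrullDim (U : Set Y) ≤ 1) :
    (U : Set Y)ᶜ.Finite ∧ ∀ y ∈ (U : Set Y)ᶜ, IsClosed ({y} : Set Y) := by
  have key : ∀ y ∈ (U : Set Y)ᶜ, IsClosed ({y} : Set Y) := by
    intro y hy
    obtain ⟨η, hη⟩ := QuasiSober.sober (isIrreducible_irreducibleComponent (x := y))
      isClosed_irreducibleComponent
    have hηy : η ⤳ y := hη.specializes mem_irreducibleComponent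
    obtain ⟨O, hO, hOn, hOZ⟩ := NoetherianSpace.exists_isOpen_nonempty_subset_irreducibleComponent
      (irreducibleComponent y) (irreducibleComponent_mem_irreducibleComponents y)
    obtain ⟨z, hzO, hzU⟩ := hd.inter_open_nonempty O hO hOn
    have hzc : z ∈ closure ({η} : Set Y) := hη.def ▸ hOZ hzO
    have hηU : η ∈ U := (specializes_iff_mem_closure.2 hzc).mem_open U.2 hzU
    obtain ⟨_, ⟨W, hW, rfl⟩, hηW, hWU⟩ :=
      Y.isBasis_affineOpens.exists_subset_of_mem_open hηU U.2
    change Y.Opens at W
    obtain ⟨n, hn, htr⟩ := Groth.L22.SchemeDim.exists_dim_closure_eq_trdeg k Y η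
    obtain ⟨m, hm, htr'⟩ := Groth.L22.SchemeDim.exists_dim_quotient_eq_trdeg k Y hW hηW
    have hmn : m = n := by exact_mod_cast htr'.symm.trans htr
    subst hmn
    have hdim : topologicalKrullDim (closure ({η} : Set Y)) ≤ 1 := by
      rw [hn, ← hm, ← Groth.L22.SchemeDim.topologicalKrullDim_closure_inter hW hηW]
      exact (Groth.L22.SchemeDim.topologicalKrullDim_mono (Set.inter_subset_right.trans hWU)).trans hU
    refine closure_subset_iff_isClosed.1 fun c hc => ?_
    have hyc : y ⤳ c := specializes_iff_mem_closure.2 hc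
    have hηc : η ⤳ c := hηy.trans hyc
    rcases eq_or_eq_of_dim_le_one hdim
      (a := (⟨η, subset_closure rfl⟩ : closure ({η} : Set Y)))
      (b := ⟨y, specializes_iff_mem_closure.1 hηy⟩) (c := ⟨c, specializes_iff_mem_closure.1 hηc⟩)
      ((subtype_specializes_iff _ _).2 hηy) ((subtype_specializes_iff _ _).2 hyc) with h | h
    · exact absurd ((show η = y from congrArg Subtype.val h) ▸ hηU) hy
    · exact (congrArg Subtype.val h).symm
  exact ⟨Groth.L18.Curve.finite_of_forall_isClosed U.2.isClosed_compl key, key⟩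

end Groth.L22.Completion
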